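import Cfsg.Agent.Inv.L
import Cfsg.Agent.Inv.Cent

set_option autoImplicit false
set_option Elab.async false
set_option maxRecDepth 100000
set_option linter.all false

namespace Cfsg.Agent.L52C
open Cfsg.Agent.CGT

open Cfsg.Agent.Inv

noncomputable def x_n0 : Net := Net.cons 1 0x44444444 <|
  Net.cons 4 0xc0c0c0c <|
  Net.cons 16 0xcccc <|
  Net.nil
noncomputable def x_n1 : Net := Net.cons 1 0x44444444 <|
  Net.nil
noncomputable def x_n2 : Net := Net.cons 8 0xf000f0 <|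
  Net.cons 1 0x555500 <|
  Net.cons 4 0xf0f00 <|
  Net.cons 8 0xf000f0 <|
  Net.nil
noncomputable def x_n3 : Net := Net.cons 8 0xff0000 <|
  Net.nil
noncomputable def x_n4 : Net := Net.cons 4 0xf0f00 <|
  Net.nil
noncomputable def x_n5 : Net := Net.cons 16 0xff00 <|
  Net.cons 4 0xf0f0000 <|
  Net.cons 8 0xff0000 <|
  Net.cons 16 0xff00 <|
  Net.nil
noncomputable def x_n6 : Net := Net.cons 1 0x555500 <|
  Net.nil
noncomputable def x_n7 : Net := Net.cons 16 0xff00 <|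
  Net.cons 1 0x55550000 <|
  Net.cons 2 0x33330000 <|
  Net.cons 8 0xff0000 <|
  Net.cons 16 0xff00 <|
  Net.nil
noncomputable def x_n8 : Net := Net.cons 16 0xf0f0 <|
  Net.cons 4 0xa0a0a0a <|
  Net.cons 1 0x50050550 <|
  Net.cons 4 0x50a050a <|
  Net.cons 16 0xff0 <|
  Net.nil
noncomputable def x_ns : List Net := [x_n0, x_n1, x_n2, x_n3, x_n4, x_n5, x_n6, x_n7, x_n8]
noncomputable def x_R : List (List ℕ) := [[0, 0], [2, 2], [4, 4], [6, 6], [8, 8], [10, 10], [12, 12], [14, 14], [16, 16]]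
noncomputable def x_t0 : Tab := (.leaf 0x52fbc73f3810eb431e30d6dacf7d2894ca4b5c20)
noncomputable def x_t2 : Tab := (.leaf 0xf7fbcd6f38b5eb494e3073dac52d2831ca410c20)
noncomputable def x_t4 : Tab := (.leaf 0x94e11deb38bdab4f7f9d7b9ac31c8552d0918820)
noncomputable def x_t6 : Tab := (.leaf 0xbdab49ca30ffbbcdeb387b9ac5a928398a418820)
noncomputable def x_t8 : Tab := (.leaf 0xffbbcdeb389ca30bdab45a9287b9ac398a418820)
noncomputable def x_t10 : Tab := (.leaf 0xffbbcdeb385a9287b9ac9ca30bdab4398a418820)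
noncomputable def x_t12 : Tab := (.leaf 0xffbbcdeb38b5e9594e1173d8d52d09398a418820)
noncomputable def x_t14 : Tab := (.leaf 0xffbbcdeb38635cf4254ba56d784653398a418820)
noncomputable def x_t16 : Tab := (.leaf 0x769985791cb8ea199e255fd3d7edb991a04b0a80)
noncomputable def x_ts : List Tab := [x_t0, x_t0, x_t2, x_t2, x_t4, x_t4, x_t6, x_t6, x_t8, x_t8, x_t10, x_t10, x_t12, x_t12, x_t14, x_t14, x_t16, x_t16]
theorem x_v : validAll (2 ^ 5) x_ns = true := by decide +kernel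
noncomputable def x_W : List (List ℕ) := [[6, 4, 6, 8, 0, 8, 6, 4, 6], [0], [6, 8, 4, 6, 8, 0, 8, 2, 8, 0, 8, 2, 6, 4, 8, 6], [6], [6, 4, 6], [6, 2, 0, 8, 0, 8, 2, 4, 2, 8, 0, 8, 0, 2, 6], [2, 0, 2, 6, 4, 2, 0, 2, 4, 6], [6, 8, 0, 2, 4, 2, 0, 8, 4, 6], [4, 8, 2, 0, 2, 6, 4, 6, 2, 0, 8, 2]]
noncomputable def y_ns : List Net := [x_n0, x_n1, x_n2, x_n3, x_n4, x_n5, x_n6]
noncomputable def y_ts : List Tab := [x_t0, x_t0, x_t2, x_t2, x_t4, x_t4, x_t6, x_t6, x_t8, x_t8, x_t10, x_t10, x_t12, x_t12]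
noncomputable def c2_l0 : Level := ⟨2, [[0], [2], [4], [6], [8], [10], [12], [14], [16]], [], 0xfffffffe, 31⟩
noncomputable def c2_l1 : Level := ⟨3, [[4], [6], [8], [10], [12], [14], [16]], [], 0xfffffffa, 30⟩
noncomputable def c2_l2 : Level := ⟨6, [[4], [6], [8], [10], [12], [14]], [], 0xfffffff0, 28⟩
noncomputable def c2_l3 : Level := ⟨7, [], [], 0x80, 1⟩
noncomputable def c2_l4 : Level := ⟨27, [[6], [8], [10], [12], [14]], [], 0xffffff00, 24⟩
noncomputable def c2_l5 : Level := ⟨26, [], [], 0x4000000, 1⟩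
noncomputable def c2_l6 : Level := ⟨19, [[8], [10], [12], [14]], [], 0xffff00, 16⟩
noncomputable def c2_ls : List Level := [c2_l0, c2_l1, c2_l2, c2_l3, c2_l4, c2_l5, c2_l6]
noncomputable def cc_l0 : Level := ⟨2, [[0], [2], [4], [6], [8], [10], [12]], [], 0xcccccccc, 16⟩
noncomputable def cc_l1 : Level := ⟨3, [], [], 0x8, 1⟩
noncomputable def cc_l2 : Level := ⟨6, [[4], [6], [8], [10], [12]], [], 0xccccccc0, 14⟩
noncomputable def cc_l3 : Level := ⟨7, [], [], 0x80, 1⟩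
noncomputable def cc_l4 : Level := ⟨27, [[6], [8], [10], [12]], [], 0xcccccc00, 12⟩
noncomputable def cc_l5 : Level := ⟨26, [], [], 0x4000000, 1⟩
noncomputable def cc_l6 : Level := ⟨19, [[8], [10], [12]], [], 0xcccc00, 8⟩
noncomputable def cc_ls : List Level := [cc_l0, cc_l1, cc_l2, cc_l3, cc_l4, cc_l5, cc_l6]
theorem x_p : Holds (lp x_ns) x_R := holdsB_sound x_v (by decide +kernel)
theorem x_t0_b : Tab.beq (mkTab 5 0 x_ns 0) x_t0 = true := by decide +kernel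
theorem x_t2_b : Tab.beq (mkTab 5 0 x_ns 2) x_t2 = true := by decide +kernel
theorem x_t4_b : Tab.beq (mkTab 5 0 x_ns 4) x_t4 = true := by decide +kernel
theorem x_t6_b : Tab.beq (mkTab 5 0 x_ns 6) x_t6 = true := by decide +kernel
theorem x_t8_b : Tab.beq (mkTab 5 0 x_ns 8) x_t8 = true := by decide +kernel
theorem x_t10_b : Tab.beq (mkTab 5 0 x_ns 10) x_t10 = true := by decide +kernel
theorem x_t12_b : Tab.beq (mkTab 5 0 x_ns 12) x_t12 = true := by decide +kernel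
theorem x_t14_b : Tab.beq (mkTab 5 0 x_ns 14) x_t14 = true := by decide +kernel
theorem x_t16_b : Tab.beq (mkTab 5 0 x_ns 16) x_t16 = true := by decide +kernel
theorem x_e0 : extJ 5 l_ns x_ns x_W 0 = true := by decide +kernel
theorem x_e1 : extJ 5 l_ns x_ns x_W 1 = true := by decide +kernel
theorem x_e2 : extJ 5 l_ns x_ns x_W 2 = true := by decide +kernel
theorem x_e3 : extJ 5 l_ns x_ns x_W 3 = true := by decide +kernel
theorem x_e4 : extJ 5 l_ns x_ns x_W 4 = true := by decide +kernel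
theorem x_e5 : extJ 5 l_ns x_ns x_W 5 = true := by decide +kernel
theorem x_e6 : extJ 5 l_ns x_ns x_W 6 = true := by decide +kernel
theorem x_e7 : extJ 5 l_ns x_ns x_W 7 = true := by decide +kernel
theorem x_e8 : extJ 5 l_ns x_ns x_W 8 = true := by decide +kernel
theorem c2_l0_ok : c2_l0.okT 5 x_ts [0, 2, 4, 6, 8, 10, 12, 14, 16] [] (.cons [0] (.cons [6] (.cons [16] (.cons [14] .nil .nil) .nil) (.cons [8] (.cons [2] .nil (.cons [6] .nil .nil)) (.cons [10] (.cons [0] .nil (.cons [2] (.cons [14] (.cons [4] .nil .nil) .nil) (.cons [4] (.cons [2] .nil .nil) (.cons [8] (.cons [0] .nil .nil) (.cons [14] (.cons [6] .nil .nil) .nil))))) (.cons [14] (.cons [8] (.cons [4] .nil (.cons [10] (.cons [16] .nil .nil) (.cons [12] (.cons [4] .nil .nil) (.cons [16] .nil .nil)))) (.cons [12] .nil (.cons [16] .nil .nil))) .nil)))) (.cons [2] (.cons [0] .nil .nil) .nil)) = true := by decide +kernel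
theorem c2_l1_ok : c2_l1.okT 5 x_ts [0, 2, 4, 6, 8, 10, 12, 14, 16] [2] (.cons [12] (.cons [2] .nil (.cons [4] (.cons [0] .nil (.cons [2] .nil (.cons [8] .nil .nil))) (.cons [6] (.cons [0] .nil (.cons [4] .nil (.cons [8] (.cons [0] .nil (.cons [4] .nil (.cons [10] (.cons [2] .nil .nil) .nil))) (.cons [10] (.cons [0] .nil (.cons [2] .nil .nil)) (.cons [12] .nil .nil))))) (.cons [8] .nil (.cons [10] (.cons [4] (.cons [0] .nil (.cons [6] .nil (.cons [8] (.cons [0] .nil (.cons [6] (.cons [12] .nil .nil) .nil)) .nil))) (.cons [8] (.cons [12] .nil .nil) .nil)) .nil))))) .nil) = true := by decide +kernel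
theorem c2_l2_ok : c2_l2.okT 5 x_ts [0, 2, 4, 6, 8, 10, 12, 14, 16] [3, 2] (.cons [0] (.cons [4] (.cons [6] (.cons [0] .nil (.cons [2] .nil .nil)) (.cons [10] .nil .nil)) (.cons [6] (.cons [2] .nil .nil) (.cons [8] (.cons [0] .nil (.cons [4] (.cons [6] (.cons [2] .nil .nil) (.cons [10] .nil .nil)) (.cons [6] .nil (.cons [10] (.cons [0] .nil (.cons [2] .nil .nil)) .nil)))) (.cons [10] (.cons [0] .nil (.cons [2] .nil (.cons [6] (.cons [4] (.cons [0] .nil (.cons [8] (.cons [0] .nil .nil) .nil)) (.cons [8] .nil .nil)) .nil))) .nil)))) .nil) = true := by decide +kernel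
theorem c2_l3_ok : (ptsOK 5 [6, 3, 2] && (wordsIn [0, 2, 4, 6, 8, 10, 12, 14, 16] c2_l3.S && c2_l3.ok 5 x_ns x_ts [6, 3, 2])) = true := by decide +kernel
theorem c2_l4_ok : c2_l4.okT 5 x_ts [0, 2, 4, 6, 8, 10, 12, 14, 16] [7, 6, 3, 2] (.cons [0] (.cons [2] (.cons [0] .nil .nil) (.cons [4] (.cons [2] (.cons [6] (.cons [8] (.cons [0] .nil .nil) .nil) (.cons [8] (.cons [0] .nil .nil) .nil)) (.cons [6] .nil .nil)) (.cons [6] (.cons [0] .nil (.cons [2] (.cons [0] .nil .nil) .nil)) (.cons [8] (.cons [2] .nil (.cons [4] (.cons [0] .nil .nil) (.cons [6] (.cons [2] .nil (.cons [4] (.cons [0] .nil .nil) .nil)) .nil))) .nil)))) .nil) = true := by decide +kernel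
theorem c2_l5_ok : (ptsOK 5 [27, 7, 6, 3, 2] && (wordsIn [0, 2, 4, 6, 8, 10, 12, 14, 16] c2_l5.S && c2_l5.ok 5 x_ns x_ts [27, 7, 6, 3, 2])) = true := by decide +kernel
theorem c2_l6_ok : c2_l6.okT 5 x_ts [0, 2, 4, 6, 8, 10, 12, 14, 16] [26, 27, 7, 6, 3, 2] (.cons [0] .nil (.cons [2] (.cons [0] (.cons [4] (.cons [6] .nil .nil) (.cons [6] .nil .nil)) (.cons [4] .nil .nil)) (.cons [4] (.cons [0] .nil .nil) (.cons [6] (.cons [0] .nil (.cons [2] .nil (.cons [4] (.cons [0] .nil (.cons [2] .nil .nil)) .nil))) .nil)))) = true := by decide +kernel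
theorem cc_l0_ok : cc_l0.okT 5 y_ts [0, 2, 4, 6, 8, 10, 12] [] (.cons [0] (.cons [6] .nil (.cons [8] (.cons [2] .nil (.cons [6] .nil .nil)) (.cons [10] (.cons [0] .nil (.cons [2] (.cons [8] .nil .nil) (.cons [4] (.cons [2] .nil .nil) (.cons [8] (.cons [0] .nil .nil) .nil)))) .nil))) (.cons [2] (.cons [0] .nil .nil) .nil)) = true := by decide +kernel
theorem cc_l1_ok : (ptsOK 5 [2] && (wordsIn [0, 2, 4, 6, 8, 10, 12] cc_l1.S && cc_l1.ok 5 y_ns y_ts [2])) = true := by decide +kernel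
theorem cc_l2_ok : cc_l2.okT 5 y_ts [0, 2, 4, 6, 8, 10, 12] [3, 2] (.cons [0] (.cons [4] (.cons [6] (.cons [0] .nil (.cons [2] .nil .nil)) .nil) (.cons [6] (.cons [2] .nil .nil) (.cons [8] (.cons [0] .nil (.cons [4] (.cons [6] (.cons [2] .nil .nil) .nil) (.cons [6] .nil .nil))) .nil))) .nil) = true := by decide +kernel
theorem cc_l3_ok : (ptsOK 5 [6, 3, 2] && (wordsIn [0, 2, 4, 6, 8, 10, 12] cc_l3.S && cc_l3.ok 5 y_ns y_ts [6, 3, 2])) = true := by decide +kernel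
theorem cc_l4_ok : cc_l4.okT 5 y_ts [0, 2, 4, 6, 8, 10, 12] [7, 6, 3, 2] (.cons [0] (.cons [2] (.cons [0] .nil .nil) (.cons [4] (.cons [2] (.cons [6] .nil .nil) (.cons [6] .nil .nil)) (.cons [6] (.cons [0] .nil (.cons [2] (.cons [0] .nil .nil) .nil)) .nil))) .nil) = true := by decide +kernel
theorem cc_l5_ok : (ptsOK 5 [27, 7, 6, 3, 2] && (wordsIn [0, 2, 4, 6, 8, 10, 12] cc_l5.S && cc_l5.ok 5 y_ns y_ts [27, 7, 6, 3, 2])) = true := by decide +kernel
theorem cc_l6_ok : cc_l6.okT 5 y_ts [0, 2, 4, 6, 8, 10, 12] [26, 27, 7, 6, 3, 2] (.cons [0] .nil (.cons [2] (.cons [0] (.cons [4] .nil .nil) (.cons [4] .nil .nil)) (.cons [4] (.cons [0] .nil .nil) .nil))) = true := by decide +kernel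
theorem x_ts_ok : TabsOK 5 (lp x_ns) x_ts :=
  TabsFrom.ok ⟨TabOK.of_beq x_v x_t0_b,
    TabOK.next (j := 0) (TabOK.of_beq x_v x_t0_b) x_p (by decide +kernel),
    TabOK.of_beq x_v x_t2_b,
    TabOK.next (j := 1) (TabOK.of_beq x_v x_t2_b) x_p (by decide +kernel),
    TabOK.of_beq x_v x_t4_b,
    TabOK.next (j := 2) (TabOK.of_beq x_v x_t4_b) x_p (by decide +kernel),
    TabOK.of_beq x_v x_t6_b,
    TabOK.next (j := 3) (TabOK.of_beq x_v x_t6_b) x_p (by decide +kernel),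
    TabOK.of_beq x_v x_t8_b,
    TabOK.next (j := 4) (TabOK.of_beq x_v x_t8_b) x_p (by decide +kernel),
    TabOK.of_beq x_v x_t10_b,
    TabOK.next (j := 5) (TabOK.of_beq x_v x_t10_b) x_p (by decide +kernel),
    TabOK.of_beq x_v x_t12_b,
    TabOK.next (j := 6) (TabOK.of_beq x_v x_t12_b) x_p (by decide +kernel),
    TabOK.of_beq x_v x_t14_b,
    TabOK.next (j := 7) (TabOK.of_beq x_v x_t14_b) x_p (by decide +kernel),
    TabOK.of_beq x_v x_t16_b,
    TabOK.next (j := 8) (TabOK.of_beq x_v x_t16_b) x_p (by decide +kernel),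
    Nat.le_of_ble_eq_true (by decide +kernel)⟩
theorem x_ext : extOK 5 l_ns x_ns x_W = true := extOK_of rfl (fun j hj => by
    change j < 9 at hj
    interval_cases j
    exacts [x_e0, x_e1, x_e2, x_e3, x_e4, x_e5, x_e6, x_e7, x_e8])
theorem c2_sound {G : Type*} [Group G] {φ : G →* Equiv.Perm ℕ} {γ : ℕ → G}
    (M : Model φ γ 5 x_ns x_ts) : ChainSound φ (gp γ [0, 2, 4, 6, 8, 10, 12, 14, 16]) 5 [] c2_ls :=
  ⟨Level.okT_sound M c2_l0_ok,
   Level.okT_sound M c2_l1_ok,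
   Level.okT_sound M c2_l2_ok,
   Level.ok_sound' M c2_l3_ok,
   Level.okT_sound M c2_l4_ok,
   Level.ok_sound' M c2_l5_ok,
   Level.okT_sound M c2_l6_ok, trivial⟩
theorem cc_sound {G : Type*} [Group G] {φ : G →* Equiv.Perm ℕ} {γ : ℕ → G}
    (M : Model φ γ 5 y_ns y_ts) : ChainSound φ (gp γ [0, 2, 4, 6, 8, 10, 12]) 5 [] cc_ls :=
  ⟨Level.okT_sound M cc_l0_ok,
   Level.ok_sound' M cc_l1_ok,
   Level.okT_sound M cc_l2_ok,
   Level.ok_sound' M cc_l3_ok,
   Level.okT_sound M cc_l4_ok,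
   Level.ok_sound' M cc_l5_ok,
   Level.okT_sound M cc_l6_ok, trivial⟩
theorem x_cert {G : Type*} [Group G] {φ : G →* Equiv.Perm ℕ} {γ : ℕ → G}
    (C : Cert φ γ 5 l_ns l_ts [0, 2, 4, 6, 8] lc_ls) : Cert φ (wg γ x_W) 5 x_ns x_ts [0, 2, 4, 6, 8, 10, 12, 14, 16] c2_ls :=
  cert_extend C x_v x_ext x_ts_ok c2_sound (by decide +kernel)

end Cfsg.Agent.L52C
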